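import Groth.Agent.ResProp.EF.Grp
import Groth.Agent.ResProp.EF.K104.Iface
import Mathlib.RingTheory.HopfAlgebra.Convolution

/-!
# Cochains and points (G5, B4)

Dictionary between helper624's cochain language (`Grp.lean`) and helper104's functor of points language
(`K104/Iface.lean`).
-/

set_option autoImplicit false

universe u

open TensorProduct WithConv

noncomputable section

namespace Groth.Agent.ResProp.EF.K208

open Groth.Agent.ResProp.EF.Grp Groth.Agent.ResProp.EF.K104

variable {k : Type u} [CommRing k]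

/-- the group of points of a commutative Hopf algebra (Mathlib only has it when the target is a bialgebra) -/
@[reducible] def convGrp (A C : Type u) [CommRing A] [HopfAlgebra k A] [CommRing C] [Algebra k C] :
    Group (WithConv (A →ₐ[k] C)) :=
  { (inferInstance : Monoid (WithConv (A →ₐ[k] C))) with
    inv := fun f => toConv (f.ofConv.comp (HopfAlgebra.antipodeAlgHom k A))
    inv_mul_cancel := fun f => by
      have H : (Algebra.TensorProduct.lmul' k).comp (Algebra.TensorProduct.map f.ofConv f.ofConv) =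
          f.ofConv.comp (Algebra.TensorProduct.lmul' k) := by ext <;> simp
      trans toConv <| ((Algebra.TensorProduct.lmul' k).comp
        (Algebra.TensorProduct.map f.ofConv f.ofConv)).comp
        ((Algebra.TensorProduct.map
        (HopfAlgebra.antipodeAlgHom k A) (.id _ _)).comp (Bialgebra.comulAlgHom k A))
      · rw [AlgHom.comp_assoc, ← AlgHom.comp_assoc (Algebra.TensorProduct.map f.ofConv f.ofConv),
          ← Algebra.TensorProduct.map_comp]; rfl
      rw [H, AlgHom.comp_assoc, WithConv.ext_iff, ← AlgHom.toLinearMap_injective.eq_iff]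
      change f.ofConv.toLinearMap.comp
        (toConv (HopfAlgebra.antipode k (A := A)) * toConv LinearMap.id).ofConv =
        ofConv (1 : WithConv <| A →ₗ[k] C)
      rw [LinearMap.antipode_mul_id]
      ext
      simp }

attribute [local instance] convGrp

/-- the group functor of a group -/
def pts (E : Gp k) : GFun k where
  pt B _ _ := WithConv (E.O →ₐ[k] B)
  grp B [CommRing B] [Algebra k B] := convGrp E.O B
  map {B C} _ _ _ _ f :=
    { toFun := fun x => toConv (f.comp x.ofConv)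
      map_one' := by
        apply WithConv.ofConv_injective
        ext a
        exact f.commutes _
      map_mul' := fun x y => congrArg toConv (AlgHom.comp_convMul_distrib f x y) }
  map_id B _ _ x := rfl
  map_comp f g x := rfl

/-- the homomorphism of group functors of a homomorphism of groups -/
def ptsHom {E E' : Gp k} (φ : E.O →ₐc[k] E'.O) : GHom (pts E') (pts E) where
  app B _ _ :=
    { toFun := fun x => toConv (AlgHom.comp (ofConv x) (φ : E.O →ₐ[k] E'.O))
      map_one' := by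
        apply WithConv.ofConv_injective
        ext a
        exact congrArg (algebraMap k B) (LinearMap.congr_fun (CoalgHomClass.counit_comp φ) a)
      map_mul' := fun x y => congrArg toConv
        (AlgHom.convMul_comp_bialgHom_distrib (A := B) (C := E'.O) x y φ) }
  nat f x := rfl

theorem ptsHom_id (E : Gp k) : ptsHom (BialgHom.id k E.O) = GHom.id (pts E) := by
  rfl

theorem ptsHom_comp {E E' E'' : Gp k} (φ : E.O →ₐc[k] E'.O) (ψ : E'.O →ₐc[k] E''.O) :
    (ptsHom ψ).comp (ptsHom φ) = ptsHom (ψ.comp φ) := by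
  rfl

theorem pts_flatRep (E : Gp k) : (pts E).FlatRep := by
  refine ⟨E.O, inferInstance, inferInstance, inferInstance, toConv (AlgHom.id k E.O), ?_⟩
  intro B _ _ x
  refine ⟨WithConv.ofConv x, rfl, ?_⟩
  intro f hf
  rw [← hf]
  rfl

section Eval

variable {V O B : Type u} [AddCommGroup V] [Module k V] [CommRing O] [Algebra k O]
  [CommRing B] [Algebra k B]

/-- `(v ⊗ b) ⊗ c ↦ v ⊗ b c` -/
def mulB (V B : Type u) [AddCommGroup V] [Module k V] [CommRing B] [Algebra k B] :
    (V ⊗[k] B) ⊗[k] B →ₗ[k] V ⊗[k] B :=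
  (LinearMap.mul' k B).lTensor V ∘ₗ (TensorProduct.assoc k V B B).toLinearMap

@[simp] theorem mulB_tmul (v : V) (b c : B) : mulB (k := k) V B ((v ⊗ₜ b) ⊗ₜ c) = v ⊗ₜ (b * c) := rfl

/-- `v ⊗ a ↦ v ⊗ g a` -/
def ev1 (g : WithConv (O →ₐ[k] B)) : V ⊗[k] O →ₗ[k] V ⊗[k] B := g.ofConv.toLinearMap.lTensor V

@[simp] theorem ev1_tmul (g : WithConv (O →ₐ[k] B)) (v : V) (a : O) :
    ev1 g (v ⊗ₜ[k] a) = v ⊗ₜ g.ofConv a := rfl

/-- `(v ⊗ a) ⊗ b ↦ v ⊗ g a * h b` -/
def ev2 (g h : WithConv (O →ₐ[k] B)) : (V ⊗[k] O) ⊗[k] O →ₗ[k] V ⊗[k] B :=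
  mulB V B ∘ₗ TensorProduct.map (ev1 g) h.ofConv.toLinearMap

@[simp] theorem ev2_tmul (g h : WithConv (O →ₐ[k] B)) (w : V ⊗[k] O) (b : O) :
    ev2 g h (w ⊗ₜ[k] b) = mulB V B (ev1 g w ⊗ₜ h.ofConv b) := rfl

/-- `((v ⊗ a) ⊗ b) ⊗ c ↦ v ⊗ g a * h b * l c` -/
def ev3 (g h l : WithConv (O →ₐ[k] B)) : ((V ⊗[k] O) ⊗[k] O) ⊗[k] O →ₗ[k] V ⊗[k] B :=
  mulB V B ∘ₗ TensorProduct.map (ev2 g h) l.ofConv.toLinearMap

@[simp] theorem ev3_tmul (g h l : WithConv (O →ₐ[k] B)) (w : (V ⊗[k] O) ⊗[k] O) (b : O) :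
    ev3 g h l (w ⊗ₜ[k] b) = mulB V B (ev2 g h w ⊗ₜ l.ofConv b) := rfl

/-- the action of a point, given the coaction -/
def actM (ρ : V →ₗ[k] V ⊗[k] O) (g : WithConv (O →ₐ[k] B)) : V ⊗[k] B →ₗ[k] V ⊗[k] B :=
  mulB V B ∘ₗ (ev1 g ∘ₗ ρ).rTensor B

@[simp] theorem actM_tmul (ρ : V →ₗ[k] V ⊗[k] O) (g : WithConv (O →ₐ[k] B)) (v : V) (b : B) :
    actM ρ g (v ⊗ₜ[k] b) = mulB V B (ev1 g (ρ v) ⊗ₜ b) := rfl

theorem mulB_mulB (w : V ⊗[k] B) (b c : B) :
    mulB V B (mulB V B (w ⊗ₜ[k] b) ⊗ₜ[k] c) = mulB V B (w ⊗ₜ[k] (b * c)) := by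
  induction w using TensorProduct.induction_on with
  | zero => simp
  | add x y hx hy => simp only [TensorProduct.add_tmul, map_add, hx, hy]
  | tmul v a => simp [mul_assoc]

theorem mulB_comm (w : V ⊗[k] B) (b c : B) :
    mulB V B (mulB V B (w ⊗ₜ[k] b) ⊗ₜ[k] c) = mulB V B (mulB V B (w ⊗ₜ[k] c) ⊗ₜ[k] b) := by
  rw [mulB_mulB, mulB_mulB, mul_comm]

@[simp] theorem mulB_one (w : V ⊗[k] B) : mulB V B (w ⊗ₜ[k] (1 : B)) = w := by
  induction w using TensorProduct.induction_on with
  | zero => simp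
  | add x y hx hy => simp only [TensorProduct.add_tmul, map_add, hx, hy]
  | tmul v a => simp

/-- the action is `B`-linear -/
theorem actM_mulB (ρ : V →ₗ[k] V ⊗[k] O) (g : WithConv (O →ₐ[k] B)) (w : V ⊗[k] B) (c : B) :
    actM ρ g (mulB V B (w ⊗ₜ[k] c)) = mulB V B (actM ρ g w ⊗ₜ c) := by
  induction w using TensorProduct.induction_on with
  | zero => simp
  | add x y hx hy => simp only [TensorProduct.add_tmul, map_add, hx, hy]
  | tmul v a => simp [mulB_mulB]

end Eval

end Groth.Agent.ResProp.EF.K208
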