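import Mathlib

/-!
# Freeness of `O(GL_n)` and of `O(Stab)` over any commutative ring

`free_quot` : `R[σ]/(f)` is a free `R`-module if the leading coefficient of `f` is a unit.
`free_away_det` : `R[τ][1/det]` is free over `R`, for the determinant of an `n × n` block of distinct
variables in any finite set `τ` of variables (so `GL_n`, the stabilizer of a unimodular vector, and
so on; for products of such groups use that tensor products of free modules are free).
-/

set_option autoImplicit false

open MvPolynomial

namespace Groth.Agent.ResProp.EF.K208

universe u v w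

variable {R : Type u} [CommRing R]

section Quot

variable {σ : Type v} (m : MonomialOrder σ)

/-- monomials not divisible by the leading monomial of `f` form a basis modulo `f` -/
theorem isCompl_restrictSupport [Nontrivial R] {f : MvPolynomial σ R}
    (hf : IsUnit (m.leadingCoeff f)) :
    IsCompl (restrictSupport R {c : σ →₀ ℕ | ¬ m.degree f ≤ c})
      ((Ideal.span {f}).restrictScalars R) := by
  constructor
  · rw [Submodule.disjoint_def]
    intro r hr hr2
    rw [mem_restrictSupport_iff] at hr
    rw [Submodule.restrictScalars_mem, Ideal.mem_span_singleton] at hr2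
    obtain ⟨g, rfl⟩ := hr2
    by_contra hne
    have hg : g ≠ 0 := by rintro rfl; simp at hne
    have h1 : m.degree (f * g) = m.degree f + m.degree g :=
      m.degree_mul_of_left_mem_nonZeroDivisors hf.mem_nonZeroDivisors hg
    have h2 := hr (Finset.mem_coe.2 (m.degree_mem_support hne))
    rw [Set.mem_ofPred_eq, h1] at h2
    exact h2 le_self_add
  · rw [codisjoint_iff, eq_top_iff]
    rintro p -
    obtain ⟨g, r, rfl, -, hr⟩ := m.div_single hf p
    rw [add_comm]
    refine Submodule.add_mem_sup ?_ ?_
    · rw [mem_restrictSupport_iff]
      intro c hc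
      exact hr c (Finset.mem_coe.1 hc)
    · rw [Submodule.restrictScalars_mem]
      exact Ideal.mul_mem_left _ _ (Ideal.subset_span rfl)

theorem free_quot {f : MvPolynomial σ R} (hf : IsUnit (m.leadingCoeff f)) :
    Module.Free R (MvPolynomial σ R ⧸ Ideal.span {f}) := by
  cases subsingleton_or_nontrivial R with
  | inl h =>
    have := Module.subsingleton R (MvPolynomial σ R ⧸ Ideal.span {f})
    exact Module.Free.of_subsingleton R _
  | inr h =>
    have hc := isCompl_restrictSupport m hf
    have e : (MvPolynomial σ R ⧸ (Ideal.span {f}).restrictScalars R) ≃ₗ[R]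
        restrictSupport R {c : σ →₀ ℕ | ¬ m.degree f ≤ c} :=
      Submodule.quotientEquivOfIsCompl _ _ hc.symm
    have : Module.Free R (restrictSupport R {c : σ →₀ ℕ | ¬ m.degree f ≤ c}) :=
      Module.Free.of_basis (basisRestrictSupport R _)
    exact Module.Free.of_equiv e.symm

/-- sparse polynomials with unit coefficients have unit leading coefficient -/
theorem isUnit_leadingCoeff_sum [Nontrivial R] {ι : Type w} [Fintype ι] [Nonempty ι]
    (E : ι → (σ →₀ ℕ)) (hE : Function.Injective E) (c : ι → R) (hc : ∀ i, IsUnit (c i)) :
    IsUnit (m.leadingCoeff (∑ i, monomial (E i) (c i))) := by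
  classical
  have hco : ∀ i, coeff (E i) (∑ j, monomial (E j) (c j)) = c i := by
    intro i
    rw [coeff_sum, Finset.sum_eq_single i]
    · rw [coeff_monomial, if_pos rfl]
    · intro j _ hj
      rw [coeff_monomial, if_neg (fun h => hj (hE h))]
    · intro h; exact absurd (Finset.mem_univ i) h
  have hne : (∑ i, monomial (E i) (c i)) ≠ 0 := by
    intro h
    obtain ⟨i⟩ := ‹Nonempty ι›
    have := hco i
    rw [h, coeff_zero] at this
    exact (hc i).ne_zero this.symm
  have hd := m.degree_mem_support hne
  rw [mem_support_iff] at hd
  by_cases hex : ∃ i, E i = m.degree (∑ i, monomial (E i) (c i))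
  · obtain ⟨i, hi⟩ := hex
    show IsUnit (coeff _ _)
    rw [← hi, hco i]
    exact hc i
  · exfalso
    apply hd
    rw [coeff_sum]
    refine Finset.sum_eq_zero fun j _ => ?_
    rw [coeff_monomial, if_neg (fun h => hex ⟨j, h⟩)]

end Quot

section Det

variable {n : Type w} [Fintype n] [DecidableEq n] {τ : Type v}

/-- the exponent of `t * ∏ x_(π i, i)` -/
noncomputable def expo (e : n × n → τ) : Option (Equiv.Perm n) → (Option τ →₀ ℕ)
  | none => 0
  | some π => Finsupp.single none 1 + ∑ i, Finsupp.single (some (e (π i, i))) 1

theorem expo_injective (e : n × n → τ) (he : Function.Injective e) :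
    Function.Injective (expo e) := by
  classical
  have h0 : ∀ π : Equiv.Perm n, expo e (some π) none = 1 := by
    intro π
    simp [expo]
  have h1 : ∀ (π : Equiv.Perm n) (j i : n), expo e (some π) (some (e (j, i))) =
      if π i = j then 1 else 0 := by
    intro π j i
    simp only [expo, Finsupp.add_apply, Finsupp.finsetSum_apply, Finsupp.single_apply]
    simp only [reduceCtorEq, if_false, zero_add, Option.some.injEq]
    rw [Finset.sum_eq_single i]
    · by_cases h : π i = j
      · subst h; simp
      · rw [if_neg, if_neg h]
        intro h'
        exact h (congrArg Prod.fst (he h'))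
    · intro b _ hb
      rw [if_neg]
      intro h'
      exact hb (congrArg Prod.snd (he h'))
    · intro h; exact absurd (Finset.mem_univ i) h
  rintro (_ | π) (_ | π') h
  · rfl
  · have := congrArg (fun z => z none) h
    simp only [h0] at this
    simp [expo] at this
  · have := congrArg (fun z => z none) h
    simp only [h0] at this
    simp [expo] at this
  · congr 1
    ext i
    have := congrArg (fun z => z (some (e (π i, i)))) h
    simp only [h1] at this
    by_contra hne
    rw [if_pos trivial, if_neg (fun h' => hne h'.symm)] at this
    exact one_ne_zero this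

theorem tdet_eq (e : n × n → τ) :
    (X none * rename (fun x => some (e x)) (Matrix.mvPolynomialX n n R).det - 1 :
      MvPolynomial (Option τ) R) =
    ∑ x : Option (Equiv.Perm n), monomial (expo e x)
      (match x with
        | none => -1
        | some π => (((Equiv.Perm.sign π : ℤˣ) : ℤ) : R)) := by
  rw [Fintype.sum_option, Matrix.det_apply']
  simp only [expo]
  rw [sub_eq_add_neg, add_comm]
  congr 1
  · rw [monomial_zero', map_neg, map_one]
  · rw [map_sum, Finset.mul_sum]
    refine Finset.sum_congr rfl fun π _ => ?_
    rw [map_mul, map_prod]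
    have h1 : ∀ i, rename (fun x => some (e x)) (Matrix.mvPolynomialX n n R (π i) i) =
        monomial (Finsupp.single (some (e (π i, i))) 1) (1 : R) := by
      intro i
      rw [Matrix.mvPolynomialX_apply, rename_X]
      rfl
    simp only [h1]
    rw [← monomial_sum_one]
    have h2 : rename (fun x => some (e x)) ((((Equiv.Perm.sign π : ℤˣ) : ℤ) :
        MvPolynomial (n × n) R)) = C (((Equiv.Perm.sign π : ℤˣ) : ℤ) : R) := by
      rw [map_intCast, map_intCast]
    rw [h2, X, ← mul_assoc, mul_comm (monomial _ _) (C _), mul_assoc, monomial_mul, C_mul_monomial]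
    simp

theorem free_away_det [Finite τ] (e : n × n → τ) (he : Function.Injective e) :
    Module.Free R (Localization.Away (rename e (Matrix.mvPolynomialX n n R).det)) := by
  classical
  cases subsingleton_or_nontrivial R with
  | inl h =>
    have := Module.subsingleton R (Localization.Away (rename e (Matrix.mvPolynomialX n n R).det))
    exact Module.Free.of_subsingleton R _
  | inr h =>
    cases nonempty_fintype τ
    let : LinearOrder (Option τ) := LinearOrder.lift' (Fintype.equivFin (Option τ))
      (Fintype.equivFin (Option τ)).injective
    set m : MonomialOrder (Option τ) := MonomialOrder.lex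
    set F : MvPolynomial (Option τ) R :=
      X none * rename (fun x => some (e x)) (Matrix.mvPolynomialX n n R).det - 1 with hF
    have hu : IsUnit (m.leadingCoeff F) := by
      rw [hF, tdet_eq]
      refine isUnit_leadingCoeff_sum m _ (expo_injective e he) _ ?_
      rintro (_ | π)
      · exact isUnit_one.neg
      · exact (Equiv.Perm.sign π).isUnit.map (Int.castRingHom R)
    have := free_quot m hu
    set d := rename e (Matrix.mvPolynomialX n n R).det with hd
    let e1 : (Polynomial (MvPolynomial τ R)) ≃ₐ[R] MvPolynomial (Option τ) R :=
      (optionEquivLeft R τ).symm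
    have he1 : e1 (Polynomial.C d * Polynomial.X - 1) = F := by
      apply (optionEquivLeft R τ).injective
      rw [AlgEquiv.apply_symm_apply, hF, map_sub, map_mul, map_one]
      have : rename (fun x => some (e x)) (Matrix.mvPolynomialX n n R).det =
          rename some d := by
        rw [hd, rename_rename]; rfl
      rw [this, optionEquivLeft_X_none, mul_comm]
      congr 2
      have h3 : ((optionEquivLeft R τ).toAlgHom.comp (rename some)) =
          (Polynomial.CAlgHom.comp (AlgHom.id R _) : MvPolynomial τ R →ₐ[R] _) := by
        refine MvPolynomial.algHom_ext fun i => ?_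
        simp
      exact (congrArg (fun z : MvPolynomial τ R →ₐ[R] _ => z d) h3).symm
    let e2 : Localization.Away d ≃ₐ[MvPolynomial τ R] AdjoinRoot (Polynomial.C d * Polynomial.X - 1) :=
      Localization.awayEquivAdjoin d
    let e3 : (Polynomial (MvPolynomial τ R) ⧸ Ideal.span {(Polynomial.C d * Polynomial.X - 1 :
        Polynomial (MvPolynomial τ R))}) ≃ₐ[R] (MvPolynomial (Option τ) R ⧸ Ideal.span {F}) :=
      Ideal.quotientEquivAlg _ _ e1 (by
        rw [Ideal.map_span, Set.image_singleton]
        congr 2
        exact he1.symm)
    exact Module.Free.of_equiv (e3.symm.toLinearEquiv.trans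
      (e2.restrictScalars R).symm.toLinearEquiv)

end Det

end Groth.Agent.ResProp.EF.K208
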