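import Groth.Agent.ResProp.EF.K208.Pts

/-!
# Cochains and points (G5, B1): Yoneda
-/

set_option autoImplicit false

universe u

open TensorProduct WithConv

noncomputable section

namespace Groth.Agent.ResProp.EF.K208

open Groth.Agent.ResProp.EF.Grp Groth.Agent.ResProp.EF.K104

variable {k : Type u} [CommRing k]

attribute [local instance] convGrp

section Eval

variable {V W O O' B C : Type u} [AddCommGroup V] [Module k V] [AddCommGroup W] [Module k W]
  [CommRing O] [Algebra k O] [CommRing O'] [Algebra k O']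
  [CommRing B] [Algebra k B] [CommRing C] [Algebra k C]

theorem mulB_map (f : B →ₐ[k] C) (w : V ⊗[k] B) (b : B) :
    f.toLinearMap.lTensor V (mulB V B (w ⊗ₜ[k] b)) =
      mulB V C (f.toLinearMap.lTensor V w ⊗ₜ[k] f b) := by
  induction w using TensorProduct.induction_on with
  | zero => simp
  | add x y hx hy => simp only [TensorProduct.add_tmul, map_add, hx, hy]
  | tmul v a => simp

theorem ev1_map (f : B →ₐ[k] C) (g : WithConv (O →ₐ[k] B)) (y : V ⊗[k] O) :
    f.toLinearMap.lTensor V (ev1 g y) = ev1 (toConv (f.comp g.ofConv)) y := by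
  induction y using TensorProduct.induction_on with
  | zero => simp
  | add x y hx hy => simp only [map_add, hx, hy]
  | tmul v a => simp

theorem ev2_map (f : B →ₐ[k] C) (g h : WithConv (O →ₐ[k] B)) (y : (V ⊗[k] O) ⊗[k] O) :
    f.toLinearMap.lTensor V (ev2 g h y) =
      ev2 (toConv (f.comp g.ofConv)) (toConv (f.comp h.ofConv)) y := by
  induction y using TensorProduct.induction_on with
  | zero => simp
  | add x y hx hy => simp only [map_add, hx, hy]
  | tmul v a => simp [mulB_map, ev1_map]

theorem ev3_map (f : B →ₐ[k] C) (g h l : WithConv (O →ₐ[k] B))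
    (y : ((V ⊗[k] O) ⊗[k] O) ⊗[k] O) :
    f.toLinearMap.lTensor V (ev3 g h l y) =
      ev3 (toConv (f.comp g.ofConv)) (toConv (f.comp h.ofConv)) (toConv (f.comp l.ofConv)) y := by
  induction y using TensorProduct.induction_on with
  | zero => simp
  | add x y hx hy => simp only [map_add, hx, hy]
  | tmul v a => simp [mulB_map, ev2_map]

theorem actM_map (ρ : V →ₗ[k] V ⊗[k] O) (f : B →ₐ[k] C) (g : WithConv (O →ₐ[k] B))
    (y : V ⊗[k] B) :
    f.toLinearMap.lTensor V (actM ρ g y) =
      actM ρ (toConv (f.comp g.ofConv)) (f.toLinearMap.lTensor V y) := by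
  induction y using TensorProduct.induction_on with
  | zero => simp
  | add x y hx hy => simp only [map_add, hx, hy]
  | tmul v a => simp [mulB_map, ev1_map]

/-- `ev1` and linear maps of the coefficients -/
theorem ev1_coef (q : V →ₗ[k] W) (g : WithConv (O →ₐ[k] B)) (y : V ⊗[k] O) :
    ev1 g (q.rTensor O y) = q.rTensor B (ev1 g y) := by
  induction y using TensorProduct.induction_on with
  | zero => simp
  | add x y hx hy => simp only [map_add, hx, hy]
  | tmul v a => simp

theorem mulB_coef (q : V →ₗ[k] W) (w : V ⊗[k] B) (b : B) :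
    mulB W B (q.rTensor B w ⊗ₜ[k] b) = q.rTensor B (mulB V B (w ⊗ₜ[k] b)) := by
  induction w using TensorProduct.induction_on with
  | zero => simp
  | add x y hx hy => simp only [TensorProduct.add_tmul, map_add, hx, hy]
  | tmul v a => simp

theorem ev2_coef (q : V →ₗ[k] W) (g h : WithConv (O →ₐ[k] B)) (y : (V ⊗[k] O) ⊗[k] O) :
    ev2 g h ((q.rTensor O).rTensor O y) = q.rTensor B (ev2 g h y) := by
  induction y using TensorProduct.induction_on with
  | zero => simp
  | add x y hx hy => simp only [map_add, hx, hy]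
  | tmul v a => simp [ev1_coef, mulB_coef]

theorem actM_coef (ρ : V →ₗ[k] V ⊗[k] O) (σ : W →ₗ[k] W ⊗[k] O) (q : V →ₗ[k] W)
    (hq : σ ∘ₗ q = q.rTensor O ∘ₗ ρ) (g : WithConv (O →ₐ[k] B)) (y : V ⊗[k] B) :
    actM σ g (q.rTensor B y) = q.rTensor B (actM ρ g y) := by
  induction y using TensorProduct.induction_on with
  | zero => simp
  | add x y hx hy => simp only [map_add, hx, hy]
  | tmul v a =>
    have := LinearMap.congr_fun hq v
    simp only [LinearMap.comp_apply] at this
    simp [this, ev1_coef, mulB_coef]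

/-- change of the group -/
theorem ev1_res (φ : O →ₐ[k] O') (g : WithConv (O' →ₐ[k] B)) (y : V ⊗[k] O) :
    ev1 g (φ.toLinearMap.lTensor V y) = ev1 (toConv (g.ofConv.comp φ)) y := by
  induction y using TensorProduct.induction_on with
  | zero => simp
  | add x y hx hy => simp only [map_add, hx, hy]
  | tmul v a => simp

theorem ev2_res (φ : O →ₐ[k] O') (g h : WithConv (O' →ₐ[k] B)) (y : (V ⊗[k] O) ⊗[k] O) :
    ev2 g h (TensorProduct.map (TensorProduct.map LinearMap.id φ.toLinearMap) φ.toLinearMap y) =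
      ev2 (toConv (g.ofConv.comp φ)) (toConv (h.ofConv.comp φ)) y := by
  induction y using TensorProduct.induction_on with
  | zero => simp
  | add x y hx hy => simp only [map_add, hx, hy]
  | tmul v a =>
    simp only [TensorProduct.map_tmul, ev2_tmul]
    rw [← ev1_res]
    rfl

theorem actM_res (ρ : V →ₗ[k] V ⊗[k] O) (φ : O →ₐ[k] O') (g : WithConv (O' →ₐ[k] B))
    (y : V ⊗[k] B) :
    actM (φ.toLinearMap.lTensor V ∘ₗ ρ) g y = actM ρ (toConv (g.ofConv.comp φ)) y := by
  induction y using TensorProduct.induction_on with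
  | zero => simp
  | add x y hx hy => simp only [map_add, hx, hy]
  | tmul v a => simp [ev1_res]

end Eval

section Coalg

variable {V O B : Type u} [AddCommGroup V] [Module k V] [CommRing O] [HopfAlgebra k O]
  [CommRing B] [Algebra k B]

theorem ev1_convMul (g h : WithConv (O →ₐ[k] B)) (y : V ⊗[k] O) :
    ev1 (g * h) y = ev2 g h ((TensorProduct.assoc k V O O).symm
      ((Coalgebra.comul (R := k) (A := O)).lTensor V y)) := by
  induction y using TensorProduct.induction_on with
  | zero => simp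
  | add x y hx hy => simp only [map_add, hx, hy]
  | tmul v a =>
    simp only [ev1_tmul, LinearMap.lTensor_tmul]
    have h1 : (g * h).ofConv a =
        LinearMap.mul' k B (TensorProduct.map g.ofConv.toLinearMap h.ofConv.toLinearMap
          (Coalgebra.comul (R := k) a)) := rfl
    rw [h1]
    generalize Coalgebra.comul (R := k) a = w
    induction w using TensorProduct.induction_on with
    | zero => simp
    | add x y hx hy => simp only [map_add, TensorProduct.tmul_add, hx, hy]
    | tmul x y => simp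

/-- the coaction is an action of the points -/
theorem actM_mul [HopfRep.Comod k O V] (g h : WithConv (O →ₐ[k] B)) (y : V ⊗[k] B) :
    actM (HopfRep.Comod.coact (k := k) (A := O)) (g * h) y =
      actM (HopfRep.Comod.coact (k := k) (A := O)) g (actM (HopfRep.Comod.coact (k := k) (A := O)) h y) := by
  induction y using TensorProduct.induction_on with
  | zero => simp
  | add x y hx hy => simp only [map_add, hx, hy]
  | tmul v b =>
    simp only [actM_tmul]
    rw [actM_mulB, ev1_convMul]
    have h1 : ∀ w : V ⊗[k] O, actM (HopfRep.Comod.coact (k := k) (A := O)) g (ev1 h w) =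
        ev2 g h ((HopfRep.Comod.coact (k := k) (A := O)).rTensor O w) := by
      intro w
      induction w using TensorProduct.induction_on with
      | zero => simp
      | add x y hx hy => simp only [map_add, hx, hy]
      | tmul v a => simp
    rw [h1]
    have h2 := LinearMap.congr_fun (HopfRep.Comod.coassoc (k := k) (A := O) (V := V)) v
    simp only [LinearMap.comp_apply, LinearEquiv.coe_coe] at h2
    have h3 : (TensorProduct.assoc k V O O).symm
        ((Coalgebra.comul (R := k) (A := O)).lTensor V (HopfRep.Comod.coact (k := k) (A := O) v)) =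
        (HopfRep.Comod.coact (k := k) (A := O)).rTensor O (HopfRep.Comod.coact (k := k) (A := O) v) := by
      rw [LinearEquiv.symm_apply_eq]
      exact h2.symm
    rw [h3]

theorem actM_one [HopfRep.Comod k O V] (y : V ⊗[k] B) :
    actM (HopfRep.Comod.coact (k := k) (A := O)) (1 : WithConv (O →ₐ[k] B)) y = y := by
  induction y using TensorProduct.induction_on with
  | zero => simp
  | add x y hx hy => simp only [map_add, hx, hy]
  | tmul v b =>
    simp only [actM_tmul]
    have h2 := LinearMap.congr_fun (HopfRep.Comod.counit_comp (k := k) (A := O) (V := V)) v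
    simp only [LinearMap.comp_apply, LinearMap.flip_apply, TensorProduct.mk_apply] at h2
    have h1 : ∀ w : V ⊗[k] O, ev1 (1 : WithConv (O →ₐ[k] B)) w =
        (Algebra.linearMap k B).lTensor V ((Coalgebra.counit (R := k) (A := O)).lTensor V w) := by
      intro w
      induction w using TensorProduct.induction_on with
      | zero => simp
      | add x y hx hy => simp only [map_add, hx, hy]
      | tmul v a => rfl
    rw [h1]
    erw [h2]
    simp


theorem ev2_coact [HopfRep.Comod k O V] (g h : WithConv (O →ₐ[k] B)) (w : V ⊗[k] O) :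
    ev2 g h ((HopfRep.Comod.coact (k := k) (A := O)).rTensor O w) =
      actM (HopfRep.Comod.coact (k := k) (A := O)) g (ev1 h w) := by
  induction w using TensorProduct.induction_on with
  | zero => simp
  | add x y hx hy => simp only [map_add, hx, hy]
  | tmul v a => simp

theorem ev3_coact [HopfRep.Comod k O V] (g h l : WithConv (O →ₐ[k] B)) (w : (V ⊗[k] O) ⊗[k] O) :
    ev3 g h l (((HopfRep.Comod.coact (k := k) (A := O)).rTensor O).rTensor O w) =
      actM (HopfRep.Comod.coact (k := k) (A := O)) g (ev2 h l w) := by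
  induction w using TensorProduct.induction_on with
  | zero => simp
  | add x y hx hy => simp only [map_add, hx, hy]
  | tmul v a => simp [ev2_coact, actM_mulB]

theorem ev3_comulL (g h l : WithConv (O →ₐ[k] B)) (w : (V ⊗[k] O) ⊗[k] O) :
    ev3 g h l (((TensorProduct.assoc k V O O).symm.toLinearMap ∘ₗ
      (Coalgebra.comul (R := k) (A := O)).lTensor V).rTensor O w) = ev2 (g * h) l w := by
  induction w using TensorProduct.induction_on with
  | zero => simp
  | add x y hx hy => simp only [map_add, hx, hy]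
  | tmul v a =>
    simp only [LinearMap.rTensor_tmul, LinearMap.comp_apply, LinearEquiv.coe_coe, ev3_tmul,
      ev2_tmul]
    rw [← ev1_convMul]

theorem ev3_comulR (g h l : WithConv (O →ₐ[k] B)) (w : (V ⊗[k] O) ⊗[k] O) :
    ev3 g h l ((TensorProduct.assoc k (V ⊗[k] O) O O).symm
      ((Coalgebra.comul (R := k) (A := O)).lTensor (V ⊗[k] O) w)) = ev2 g (h * l) w := by
  induction w using TensorProduct.induction_on with
  | zero => simp
  | add x y hx hy => simp only [map_add, hx, hy]
  | tmul v a =>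
    simp only [LinearMap.lTensor_tmul, ev2_tmul]
    have h1 : (h * l).ofConv a =
        LinearMap.mul' k B (TensorProduct.map h.ofConv.toLinearMap l.ofConv.toLinearMap
          (Coalgebra.comul (R := k) a)) := rfl
    rw [h1]
    generalize Coalgebra.comul (R := k) a = w
    induction w using TensorProduct.induction_on with
    | zero => simp
    | add x y hx hy => simp only [map_add, TensorProduct.tmul_add, hx, hy]
    | tmul x y => simp [mulB_mulB]

theorem d_one_apply [HopfRep.Comod k O V] (y : V ⊗[k] O) :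
    (Hoch.d k O V 1 y : (V ⊗[k] O) ⊗[k] O) = (HopfRep.Comod.coact (k := k) (A := O)).rTensor O y -
      (TensorProduct.assoc k V O O).symm ((Coalgebra.comul (R := k) (A := O)).lTensor V y) +
      y ⊗ₜ 1 := by
  induction y using TensorProduct.induction_on with
  | zero => simp
  | add x y hx hy =>
    rw [map_add, hx, hy, map_add, map_add, map_add, TensorProduct.add_tmul]
    abel
  | tmul v a =>
    have h0 : ∀ x : (V ⊗[k] O) ⊗[k] O, ((-1 : k) ^ (0 + 1)) • x = -x := fun x => by
      rw [zero_add, pow_one]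
      exact (neg_smul (1 : k) x).trans (by rw [one_smul])
    have h1 : (Hoch.d k O V 1 (v ⊗ₜ[k] a) : (V ⊗[k] O) ⊗[k] O) =
      (Hoch.d k O V 0).rTensor O (v ⊗ₜ a) + -(Hoch.tail k O V (v ⊗ₜ a)) := by
      rw [← h0]; rfl
    rw [h1, LinearMap.rTensor_tmul, Hoch.d_zero_apply, Hoch.tail_tmul]
    simp only [LinearMap.rTensor_tmul, LinearMap.lTensor_tmul, TensorProduct.sub_tmul,
      TensorProduct.tmul_sub, map_sub, TensorProduct.assoc_symm_tmul]
    abel

theorem d_two_apply [HopfRep.Comod k O V] (z : (V ⊗[k] O) ⊗[k] O) :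
    (Hoch.d k O V 2 z : ((V ⊗[k] O) ⊗[k] O) ⊗[k] O) =
      ((HopfRep.Comod.coact (k := k) (A := O)).rTensor O).rTensor O z -
      ((TensorProduct.assoc k V O O).symm.toLinearMap ∘ₗ
        (Coalgebra.comul (R := k) (A := O)).lTensor V).rTensor O z +
      (TensorProduct.assoc k (V ⊗[k] O) O O).symm
        ((Coalgebra.comul (R := k) (A := O)).lTensor (V ⊗[k] O) z) -
      z ⊗ₜ 1 := by
  induction z using TensorProduct.induction_on with
  | zero => simp
  | add x y hx hy =>
    rw [map_add, hx, hy, map_add, map_add, map_add, map_add, TensorProduct.add_tmul]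
    abel
  | tmul w a =>
    have h0 : ∀ x : ((V ⊗[k] O) ⊗[k] O) ⊗[k] O, ((-1 : k) ^ (1 + 1)) • x = x := fun x => by simp
    have h1 : (Hoch.d k O V 2 (w ⊗ₜ[k] a) : ((V ⊗[k] O) ⊗[k] O) ⊗[k] O) =
      (Hoch.d k O V 1).rTensor O (w ⊗ₜ a) + Hoch.tail k O (V ⊗[k] O) (w ⊗ₜ a) := by
      rw [← h0 (Hoch.tail k O (V ⊗[k] O) (w ⊗ₜ a))]; rfl
    have h2 : (Hoch.d k O V 1).rTensor O (w ⊗ₜ a) = (Hoch.d k O V 1 w : (V ⊗[k] O) ⊗[k] O) ⊗ₜ[k] a :=
      rfl
    rw [h1, h2, d_one_apply, Hoch.tail_tmul]
    simp only [LinearMap.rTensor_tmul, LinearMap.lTensor_tmul, TensorProduct.sub_tmul,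
      TensorProduct.add_tmul, LinearMap.comp_apply, LinearEquiv.coe_coe,
      TensorProduct.tmul_sub, map_sub, TensorProduct.assoc_symm_tmul]
    abel

/-- the differential on points, degree 1 -/
theorem ev2_d [HopfRep.Comod k O V] (g h : WithConv (O →ₐ[k] B)) (y : V ⊗[k] O) :
    ev2 g h (Hoch.d k O V 1 y : (V ⊗[k] O) ⊗[k] O) =
      actM (HopfRep.Comod.coact (k := k) (A := O)) g (ev1 h y) - ev1 (g * h) y + ev1 g y := by
  rw [d_one_apply, map_add, map_sub, ev2_coact, ← ev1_convMul]
  simp

/-- the differential on points, degree 2 -/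
theorem ev3_d [HopfRep.Comod k O V] (g h l : WithConv (O →ₐ[k] B)) (z : (V ⊗[k] O) ⊗[k] O) :
    ev3 g h l (Hoch.d k O V 2 z : ((V ⊗[k] O) ⊗[k] O) ⊗[k] O) =
      actM (HopfRep.Comod.coact (k := k) (A := O)) g (ev2 h l z) - ev2 (g * h) l z +
        ev2 g (h * l) z - ev2 g h z := by
  rw [d_two_apply, map_sub, map_add, map_sub, ev3_coact, ev3_comulL, ev3_comulR]
  simp

end Coalg

section Univ

variable {V O : Type u} [AddCommGroup V] [Module k V] [CommRing O] [HopfAlgebra k O]

/-- the universal pair of points -/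
def u2 (k O : Type u) [CommRing k] [CommRing O] [HopfAlgebra k O] :
    WithConv (O →ₐ[k] O ⊗[k] O) × WithConv (O →ₐ[k] O ⊗[k] O) :=
  (toConv Algebra.TensorProduct.includeLeft, toConv Algebra.TensorProduct.includeRight)

theorem ev2_univ (z : (V ⊗[k] O) ⊗[k] O) :
    ev2 (u2 k O).1 (u2 k O).2 z = TensorProduct.assoc k V O O z := by
  have : ev2 (V := V) (u2 k O).1 (u2 k O).2 = (TensorProduct.assoc k V O O).toLinearMap := by
    apply TensorProduct.ext_threefold
    intro v a b
    simp [u2]
  exact LinearMap.congr_fun this z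

/-- the universal triple of points -/
def u3 (k O : Type u) [CommRing k] [CommRing O] [HopfAlgebra k O] (i : Fin 3) :
    WithConv (O →ₐ[k] (O ⊗[k] O) ⊗[k] O) :=
  match i with
  | 0 => toConv (Algebra.TensorProduct.includeLeft.comp Algebra.TensorProduct.includeLeft)
  | 1 => toConv (Algebra.TensorProduct.includeLeft.comp Algebra.TensorProduct.includeRight)
  | 2 => toConv Algebra.TensorProduct.includeRight

theorem ev3_univ (z : ((V ⊗[k] O) ⊗[k] O) ⊗[k] O) :
    ev3 (u3 k O 0) (u3 k O 1) (u3 k O 2) z =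
      TensorProduct.assoc k V (O ⊗[k] O) O ((TensorProduct.assoc k V O O).toLinearMap.rTensor O z) := by
  have : ev3 (V := V) (u3 k O 0) (u3 k O 1) (u3 k O 2) =
      (TensorProduct.assoc k V (O ⊗[k] O) O).toLinearMap ∘ₗ
        (TensorProduct.assoc k V O O).toLinearMap.rTensor O := by
    apply TensorProduct.ext
    apply TensorProduct.ext_threefold
    intro v a b
    ext c
    simp [u3]
  exact LinearMap.congr_fun this z

theorem eq_zero_of_ev3 (z : ((V ⊗[k] O) ⊗[k] O) ⊗[k] O)
    (h : ev3 (u3 k O 0) (u3 k O 1) (u3 k O 2) z = 0) : z = 0 := by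
  rw [ev3_univ] at h
  have h1 := (TensorProduct.assoc k V (O ⊗[k] O) O).map_eq_zero_iff.1 h
  have h2 : Function.Injective ((TensorProduct.assoc k V O O).toLinearMap.rTensor O) :=
    ((TensorProduct.assoc k V O O).rTensor O).injective
  exact h2 (by rw [h1, map_zero])


theorem ev2_univ_injective (z z' : (V ⊗[k] O) ⊗[k] O)
    (h : ev2 (u2 k O).1 (u2 k O).2 z = ev2 (u2 k O).1 (u2 k O).2 z') : z = z' := by
  rw [ev2_univ, ev2_univ] at h
  exact (TensorProduct.assoc k V O O).injective h

end Univ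

section Main

/-- the functorial module of a comodule: `B ↦ M ⊗ B` -/
def ptsM {E : Gp k} (M : GMod E) : HMod (pts E) where
  pt B _ _ := M.V ⊗[k] B
  grp B [CommRing B] [Algebra k B] := (inferInstance : AddCommGroup (M.V ⊗[k] B))
  map f := (f.toLinearMap.lTensor M.V).toAddMonoidHom
  map_id B _ _ x := by
    change (AlgHom.id k B).toLinearMap.lTensor M.V x = x
    rw [AlgHom.toLinearMap_id, LinearMap.lTensor_id]; rfl
  map_comp f g x := by
    change (g.comp f).toLinearMap.lTensor M.V x =
      g.toLinearMap.lTensor M.V (f.toLinearMap.lTensor M.V x)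
    rw [AlgHom.comp_toLinearMap, LinearMap.lTensor_comp]; rfl
  act B [CommRing B] [Algebra k B] g :=
    (actM (HopfRep.Comod.coact (k := k) (A := E.O) (V := M.V))
      (g : WithConv (E.O →ₐ[k] B))).toAddMonoidHom
  act_one B _ _ x := actM_one x
  act_mul B _ _ g h x := actM_mul (B := B) g h x
  act_nat f g x := actM_map _ f g x

variable {E H : Gp k}

/-- a natural family of functions of two points is a 2-cochain -/
theorem exists_cochain2 (V : Type u) [AddCommGroup V] [Module k V]
    (c : ∀ (B : Type u) [CommRing B] [Algebra k B], (pts E).pt B → (pts E).pt B → V ⊗[k] B)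
    (nat : ∀ {B C : Type u} [CommRing B] [Algebra k B] [CommRing C] [Algebra k C]
      [Module.Flat k B] [Module.Flat k C] (f : B →ₐ[k] C) (g h : (pts E).pt B),
      c C ((pts E).map f g) ((pts E).map f h) = f.toLinearMap.lTensor V (c B g h)) :
    ∃ z : (V ⊗[k] E.O) ⊗[k] E.O, ∀ (B : Type u) [CommRing B] [Algebra k B] [Module.Flat k B]
      (g h : (pts E).pt B), c B g h = ev2 g h z := by
  refine ⟨(TensorProduct.assoc k V E.O E.O).symm (c (E.O ⊗[k] E.O) (u2 k E.O).1 (u2 k E.O).2), ?_⟩
  intro B _ _ _ g h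
  let F : E.O ⊗[k] E.O →ₐ[k] B := Algebra.TensorProduct.productMap (ofConv g) (ofConv h)
  have hg : (pts E).map F (u2 k E.O).1 = g := by
    apply WithConv.ofConv_injective
    ext a
    change F (a ⊗ₜ 1) = ofConv g a
    simp [F]
  have hh : (pts E).map F (u2 k E.O).2 = h := by
    apply WithConv.ofConv_injective
    ext a
    change F (1 ⊗ₜ a) = ofConv h a
    simp [F]
  have h1 := nat F (u2 k E.O).1 (u2 k E.O).2
  rw [hg, hh] at h1
  rw [h1]
  have h2 := ev2_map F (u2 k E.O).1 (u2 k E.O).2
    ((TensorProduct.assoc k V E.O E.O).symm (c (E.O ⊗[k] E.O) (u2 k E.O).1 (u2 k E.O).2))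
  rw [ev2_univ, LinearEquiv.apply_symm_apply] at h2
  rw [h2]
  have hg' : toConv (F.comp (ofConv (u2 k E.O).1)) = (g : WithConv (E.O →ₐ[k] B)) := hg
  have hh' : toConv (F.comp (ofConv (u2 k E.O).2)) = (h : WithConv (E.O →ₐ[k] B)) := hh
  rw [hg', hh']

/-- a natural family of functions of one point is a 1-cochain -/
theorem exists_cochain1 (V : Type u) [AddCommGroup V] [Module k V]
    (c : ∀ (B : Type u) [CommRing B] [Algebra k B], (pts E).pt B → V ⊗[k] B)
    (nat : ∀ {B C : Type u} [CommRing B] [Algebra k B] [CommRing C] [Algebra k C]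
      [Module.Flat k B] [Module.Flat k C] (f : B →ₐ[k] C) (g : (pts E).pt B),
      c C ((pts E).map f g) = f.toLinearMap.lTensor V (c B g)) :
    ∃ z : V ⊗[k] E.O, ∀ (B : Type u) [CommRing B] [Algebra k B] [Module.Flat k B]
      (g : (pts E).pt B), c B g = ev1 g z := by
  refine ⟨c E.O (toConv (AlgHom.id k E.O)), ?_⟩
  intro B _ _ _ g
  exact nat (ofConv g) (toConv (AlgHom.id k E.O))

/-- **Yoneda**: natural families of 2-cocycles are 2-cocycles -/
theorem exists_cocycle (M : GMod H) (ι : H.O →ₐc[k] E.O)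
    (c : Coc (ptsM M) (pts E) (ptsHom ι)) :
    ∃ z : (M.res ι).C 2, (M.res ι).d 2 z = 0 ∧
      ∀ (B : Type u) [CommRing B] [Algebra k B] [Module.Flat k B] (g h : (pts E).pt B),
        c.c B g h = ev2 g h (z : (M.V ⊗[k] E.O) ⊗[k] E.O) := by
  obtain ⟨z, hz⟩ := exists_cochain2 M.V c.c (fun f g h => c.nat f g h)
  refine ⟨z, ?_, hz⟩
  have h3 : ∀ (B : Type u) [CommRing B] [Algebra k B] (g : (pts E).pt B) (y : M.V ⊗[k] B),
      (ptsM M).act B ((ptsHom ι).app B g) y =
        actM (HopfRep.Comod.coact (k := k) (A := E.O) (V := (M.res ι).V))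
          (g : WithConv (E.O →ₐ[k] B)) y := by
    intro B _ _ g y
    exact (actM_res (HopfRep.Comod.coact (k := k) (A := H.O) (V := M.V))
      (ι : H.O →ₐ[k] E.O) g y).symm
  have key : ∀ (B : Type u) [CommRing B] [Algebra k B] [Module.Flat k B]
      (g h l : (pts E).pt B),
      actM (HopfRep.Comod.coact (k := k) (A := E.O) (V := (M.res ι).V))
        (g : WithConv (E.O →ₐ[k] B)) (ev2 h l z) + ev2 g (h * l) z =
      ev2 g h z + ev2 (g * h) l z := by
    intro B _ _ _ g h l
    have h2 := c.cocycle B g h l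
    rw [← h3 B g]
    have e1 := hz B h l
    have e2 := hz B g (h * l)
    have e3 := hz B g h
    have e4 := hz B (g * h) l
    rw [← e1, ← e2, ← e3, ← e4]
    exact h2
  apply eq_zero_of_ev3
  have h1 := ev3_d (V := (M.res ι).V) (u3 k E.O 0) (u3 k E.O 1) (u3 k E.O 2) z
  have h2 := key ((E.O ⊗[k] E.O) ⊗[k] E.O) (u3 k E.O 0) (u3 k E.O 1) (u3 k E.O 2)
  refine h1.trans ?_
  have h4 := sub_eq_zero.2 h2
  refine Eq.trans ?_ h4
  change _ - ev2 (u3 k E.O 0 * u3 k E.O 1) (u3 k E.O 2) z +
    ev2 (u3 k E.O 0) (u3 k E.O 1 * u3 k E.O 2) z - _ = _ + ev2 (u3 k E.O 0) (u3 k E.O 1 * u3 k E.O 2) z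
      - (_ + ev2 (u3 k E.O 0 * u3 k E.O 1) (u3 k E.O 2) z)
  abel

/-- the cochain map of a morphism of comodules, on points -/
theorem ev2_cmap (M N : GMod E) (q : M.V →ₗ[k] N.V) {B : Type u} [CommRing B] [Algebra k B]
    (g h : WithConv (E.O →ₐ[k] B)) (z : M.C 2) :
    ev2 g h (cmap M N q 2 z : (N.V ⊗[k] E.O) ⊗[k] E.O) =
      q.rTensor B (ev2 g h (z : (M.V ⊗[k] E.O) ⊗[k] E.O)) :=
  ev2_coef q g h z

/-- restriction of cochains, on points -/
theorem ev2_cres {E' : Gp k} (φ : E.O →ₐc[k] E'.O) (M : GMod E) {B : Type u} [CommRing B]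
    [Algebra k B] (g h : WithConv (E'.O →ₐ[k] B)) (z : M.C 2) :
    ev2 g h (cres φ M 2 z : (M.V ⊗[k] E'.O) ⊗[k] E'.O) =
      ev2 ((ptsHom φ).app B g : WithConv (E.O →ₐ[k] B)) ((ptsHom φ).app B h : WithConv (E.O →ₐ[k] B))
        (z : (M.V ⊗[k] E.O) ⊗[k] E.O) :=
  ev2_res (φ : E.O →ₐ[k] E'.O) g h z

/-- the action of `ptsM` unfolded -/
theorem ptsM_act (M : GMod H) {B : Type u} [CommRing B] [Algebra k B] (g : (pts H).pt B)
    (y : M.V ⊗[k] B) : (ptsM M).act B g y =
      actM (HopfRep.Comod.coact (k := k) (A := H.O) (V := M.V)) (g : WithConv (H.O →ₐ[k] B)) y := rfl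

/-- a coboundary on points: `(db)(g, h) = g b(h) - b(gh) + b(g)`, for a module restricted from `H` -/
theorem ev2_dres (M : GMod H) (ι : H.O →ₐc[k] E.O) {B : Type u} [CommRing B] [Algebra k B]
    (g h : (pts E).pt B) (b : M.V ⊗[k] E.O) :
    ev2 (g : WithConv (E.O →ₐ[k] B)) (h : WithConv (E.O →ₐ[k] B))
      ((M.res ι).d 1 b : (M.V ⊗[k] E.O) ⊗[k] E.O) =
      actM (HopfRep.Comod.coact (k := k) (A := H.O) (V := M.V))
        ((ptsHom ι).app B g : WithConv (H.O →ₐ[k] B)) (ev1 (h : WithConv (E.O →ₐ[k] B)) b) -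
        ev1 ((g * h : (pts E).pt B) : WithConv (E.O →ₐ[k] B)) b +
        ev1 (g : WithConv (E.O →ₐ[k] B)) b := by
  have h1 := ev2_d (V := (M.res ι).V) (g : WithConv (E.O →ₐ[k] B)) (h : WithConv (E.O →ₐ[k] B)) b
  refine h1.trans ?_
  have h3 := actM_res (HopfRep.Comod.coact (k := k) (A := H.O) (V := M.V))
      (ι : H.O →ₐ[k] E.O) (g : WithConv (E.O →ₐ[k] B))
      (ev1 (h : WithConv (E.O →ₐ[k] B)) b)
  exact congrArg (fun t => t - ev1 ((g * h : (pts E).pt B) : WithConv (E.O →ₐ[k] B)) b +
        ev1 (g : WithConv (E.O →ₐ[k] B)) b) h3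

/-- the same for a module of the group itself -/
theorem ev2_dself (M : GMod E) {B : Type u} [CommRing B] [Algebra k B]
    (g h : (pts E).pt B) (b : M.V ⊗[k] E.O) :
    ev2 (g : WithConv (E.O →ₐ[k] B)) (h : WithConv (E.O →ₐ[k] B))
      (M.d 1 b : (M.V ⊗[k] E.O) ⊗[k] E.O) =
      actM (HopfRep.Comod.coact (k := k) (A := E.O) (V := M.V)) (g : WithConv (E.O →ₐ[k] B))
        (ev1 (h : WithConv (E.O →ₐ[k] B)) b) -
        ev1 ((g * h : (pts E).pt B) : WithConv (E.O →ₐ[k] B)) b +
        ev1 (g : WithConv (E.O →ₐ[k] B)) b :=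
  ev2_d (V := M.V) (g : WithConv (E.O →ₐ[k] B)) (h : WithConv (E.O →ₐ[k] B)) b

/-- a 2-cochain is determined by its values on points of flat algebras -/
theorem ext2 {V : Type u} [AddCommGroup V] [Module k V] (z z' : (V ⊗[k] E.O) ⊗[k] E.O)
    (h : ∀ (B : Type u) [CommRing B] [Algebra k B] [Module.Flat k B]
      (g h : WithConv (E.O →ₐ[k] B)), ev2 g h z = ev2 g h z') : z = z' :=
  ev2_univ_injective z z' (h _ _ _)

/-- a 1-cochain is determined by its values on points of flat algebras -/
theorem ext1 {V : Type u} [AddCommGroup V] [Module k V] (z z' : V ⊗[k] E.O)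
    (h : ∀ (B : Type u) [CommRing B] [Algebra k B] [Module.Flat k B]
      (g : WithConv (E.O →ₐ[k] B)), ev1 g z = ev1 g z') : z = z' := by
  have h1 := h E.O (toConv (AlgHom.id k E.O))
  have h2 : ∀ y : V ⊗[k] E.O, ev1 (toConv (AlgHom.id k E.O)) y = y := by
    intro y
    change (AlgHom.id k E.O).toLinearMap.lTensor V y = y
    rw [AlgHom.toLinearMap_id, LinearMap.lTensor_id]; rfl
  rwa [h2, h2] at h1

end Main

end Groth.Agent.ResProp.EF.K208
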